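import Groth.Agent.Lib.Ref1.Frame
import Groth.Agent.Lib.FlatFP.Kernel
import Groth.Agent.Lib.FlatFP.Sheaf
import Groth.Agent.Lib.QCoh.AvoidSub
import Mathlib.AlgebraicGeometry.Properties
import Mathlib.RingTheory.LocalRing.Module

/-!
# Criteria for finite locally free modules
-/

set_option autoImplicit false
universe u

open CategoryTheory Opposite AlgebraicGeometry TopologicalSpace TensorProduct

namespace GrothLib.LocFree8

variable {X : Scheme.{u}} (M : X.Modules)

/-- Finite locally free quasi-coherent modules are of finite presentation. -/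
theorem isFP_of_isFinLocFree [M.IsQuasicoherent] (h : FlatMod.IsFinLocFree M) : CohB1.IsFP M := by
  choose U n e hx he using fun x : X => FinCov.exists_frame_nhd h x
  have hA : ∀ x : X, ∃ V : X.Opens, IsAffineOpen V ∧ x ∈ V ∧ V ≤ U x := fun x =>
    exists_isAffineOpen_mem_and_subset (hx x)
  choose V hV hxV hVU using hA
  refine FlatFP.isFP_of_sections M V (top_le_iff.mp fun x _ => Opens.mem_iSup.mpr ⟨x, hxV x⟩) hV fun x => ?_
  have := Module.Free.of_basis ((he x).basis (V x) (hVU x))
  have := Module.Finite.of_basis ((he x).basis (V x) (hVU x))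
  exact Module.finitePresentation_of_projective _ _

/-- Finite locally free iff of finite presentation with free stalks. -/
theorem isFinLocFree_iff_fp_free [M.IsQuasicoherent] :
    FlatMod.IsFinLocFree M ↔
      CohB1.IsFP M ∧ ∀ x : X, Module.Free (X.presheaf.stalk x) (M.presheaf.stalk x) := by
  refine ⟨fun h => ⟨isFP_of_isFinLocFree M h, fun x => ?_⟩,
    fun h => (Ref1.isFinLocFree_iff_free (HomSh.hasRel_of_isFP h.1)).mpr h.2⟩
  exact (Ref1.isFinLocFree_iff_free (HomSh.hasRel_of_isFP (isFP_of_isFinLocFree M h))).mp h x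

/-- The fibre dimension of a module at a point. -/
noncomputable abbrev fibRank (x : X) : ℕ :=
  Module.finrank (IsLocalRing.ResidueField (X.presheaf.stalk x))
    (IsLocalRing.ResidueField (X.presheaf.stalk x) ⊗[X.presheaf.stalk x] M.presheaf.stalk x)

/-- The fibre dimension of a free stalk. -/
theorem fibRank_of_free (x : X) [Module.Free (X.presheaf.stalk x) (M.presheaf.stalk x)] :
    fibRank M x = Module.finrank (X.presheaf.stalk x) (M.presheaf.stalk x) :=
  Module.finrank_baseChange

/-- Finite locally free modules have locally constant fibre dimension. -/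
theorem isLocallyConstant_fibRank (h : FlatMod.IsFinLocFree M) :
    IsLocallyConstant (fibRank M) := by
  refine (IsLocallyConstant.iff_exists_open _).mpr fun x => ?_
  obtain ⟨U, n, e, hxU, he⟩ := FinCov.exists_frame_nhd h x
  refine ⟨U, U.2, hxU, fun y hy => ?_⟩
  have key : ∀ z ∈ U, fibRank M z = n := fun z hz => by
    let ε := LinearEquiv.ofBijective _ (Ref1.stalk_of_isFrame he z hz)
    have := Module.Free.of_equiv ε
    rw [fibRank_of_free, ← ε.finrank_eq, Module.finrank_fin_fun]
  rw [key x hxU, key y hy]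

/-- Near a point a module of finite type is spanned by as many sections as the fibre dimension. -/
theorem exists_spanning_nhd [M.IsQuasicoherent] (hM : CohB1.IsFT M) (x : X) :
    ∃ (U : X.Opens) (_ : x ∈ U) (s : Fin (fibRank M x) → Γ(M, U)),
      ∀ (y : X) (hy : y ∈ U), Function.Surjective (Ref1.stalkComb s y hy) := by
  classical
  let O := X.presheaf.stalk x
  let k := IsLocalRing.ResidueField O
  haveI : Module.Finite O (M.presheaf.stalk x) :=
    QCoh.stalk_finite M ⟨‹M.IsQuasicoherent›, hM⟩ x
  let b := Module.finBasis k (k ⊗[O] M.presheaf.stalk x)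
  choose v hv using fun i => TensorProduct.mk_surjective O (M.presheaf.stalk x) k
    Ideal.Quotient.mk_surjective (b i)
  have hspan : Submodule.span O (Set.range v) = ⊤ := IsLocalRing.span_eq_top_of_tmul_eq_basis v b hv
  choose Wb hWb t ht using fun i => TopCat.Presheaf.exists_germ_eq M.presheaf (v i)
  obtain ⟨W, ι, _, m, hxW, hgen⟩ := HomSh.exists_genOn M hM x
  choose c hc using fun j => (Submodule.mem_span_range_iff_exists_fun O).1
    (hspan.ge (Submodule.mem_top (x := M.presheaf.germ W x hxW (m j))))
  obtain ⟨T, hT, hxT, r, hr⟩ := Ref1.exists_repr_nhd hxW (fun p : ι × _ => c p.1 p.2)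
  let T' : X.Opens := ⟨(⋂ j, (Wb j : Set X)) ∩ T, (isOpen_iInter_of_finite fun i => (Wb i).isOpen).inter T.isOpen⟩
  have hT'T : T' ≤ T := fun z hz => hz.2
  have hT'W : T' ≤ W := hT'T.trans hT
  have hT'b : ∀ j, T' ≤ Wb j := fun j z hz => Set.mem_iInter.1 hz.1 j
  have hxT' : x ∈ T' := ⟨Set.mem_iInter.2 hWb, hxT⟩
  let s : Fin (fibRank M x) → Γ(M, T') := fun i => M.presheaf.map (homOfLE (hT'b i)).op (t i)
  let m' : ι → Γ(M, T') := fun j => M.presheaf.map (homOfLE hT'W).op (m j)
  let C : ι → Fin (fibRank M x) → Γ(X, T') := fun j i => X.presheaf.map (homOfLE hT'T).op (r (j, i))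
  have hC : ∀ j i, X.presheaf.germ T' x hxT' (C j i) = c j i := fun j i => by
    simp only [C, TopCat.Presheaf.germ_res_apply, hr]
  obtain ⟨U, hU, hxU, hz⟩ := HomSh.exists_nhd_zero M hxT' (fun j => m' j - ∑ i, C j i • s i) (fun j => by
    simp only [map_sub, map_sum, Mero.germ_smul, hC, m', s, TopCat.Presheaf.germ_res_apply, ht, sub_eq_zero]
    exact (hc j).symm)
  refine ⟨U, hxU, fun i => M.presheaf.map (homOfLE hU).op (s i), fun y hy => ?_⟩
  rw [← LinearMap.range_eq_top, Ref1.stalkComb, Fintype.range_linearCombination, eq_top_iff,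
    ← hgen y (hT'W (hU hy)), Submodule.span_le]
  rintro _ ⟨j, rfl⟩
  have h0 := congrArg (M.presheaf.germ U y hy) (hz j)
  simp only [map_sub, map_sum, map_zero, sub_eq_zero, TopCat.Presheaf.germ_res_apply, m',
    Mero.germ_smul, Scheme.Modules.map_smul] at h0
  dsimp only [SetLike.mem_coe]
  rw [h0]
  refine Submodule.sum_mem _ fun i _ => Submodule.smul_mem _ _ (Submodule.subset_span ⟨i, ?_⟩)
  simp only [TopCat.Presheaf.germ_res_apply]

/-- Finite type with free stalks of locally constant rank is finite locally free. -/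
theorem isFinLocFree_of_free_of_locallyConstant [M.IsQuasicoherent] (hM : CohB1.IsFT M)
    (hfree : ∀ x : X, Module.Free (X.presheaf.stalk x) (M.presheaf.stalk x))
    (hc : IsLocallyConstant (fibRank M)) : FlatMod.IsFinLocFree M := by
  intro x
  obtain ⟨U, hxU, s, hs⟩ := exists_spanning_nhd M hM x
  let U' : X.Opens := U ⊓ ⟨{y | fibRank M y = fibRank M x}, hc.isOpen_fiber _⟩
  let s' : Fin (fibRank M x) → Γ(M, U') := fun i => M.presheaf.map (homOfLE inf_le_left).op (s i)
  have hF : FinCov.IsFrame M U' s' := Ref1.isFrame_of_stalk fun y hy => by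
    haveI : Module.Finite (X.presheaf.stalk y) (M.presheaf.stalk y) :=
      QCoh.stalk_finite M ⟨‹M.IsQuasicoherent›, hM⟩ y
    haveI := hfree y
    have hsurj : Function.Surjective (Ref1.stalkComb s' y hy) := by
      have e : Ref1.stalkComb s' y hy = Ref1.stalkComb s y hy.1 := by
        unfold Ref1.stalkComb
        congr 1
        funext i
        exact TopCat.Presheaf.germ_res_apply M.presheaf _ y hy (s i)
      rw [e]; exact hs y hy.1
    have hrk : Module.finrank (X.presheaf.stalk y) (M.presheaf.stalk y) = fibRank M x := by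
      rw [← fibRank_of_free]; exact hy.2
    let ε : M.presheaf.stalk y ≃ₗ[X.presheaf.stalk y] (Fin (fibRank M x) → X.presheaf.stalk y) :=
      (Module.finBasisOfFinrankEq _ _ hrk).equivFun
    refine ⟨?_, hsurj⟩
    have hinj := OrzechProperty.injective_of_surjective_endomorphism (ε.toLinearMap ∘ₗ Ref1.stalkComb s' y hy)
      (ε.surjective.comp hsurj)
    exact fun a b h => hinj (congrArg ε h)
  exact ⟨U', _, ⟨hxU, rfl⟩, FinCov.exists_iso_of_frame hF⟩

/-- On a reduced scheme finite type with locally constant fibre dimension is finite locally free. -/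
theorem isFinLocFree_of_locallyConstant [IsReduced X] [M.IsQuasicoherent] (hM : CohB1.IsFT M)
    (hc : IsLocallyConstant (fibRank M)) : FlatMod.IsFinLocFree M := by
  intro x
  obtain ⟨U, hxU, s, hs⟩ := exists_spanning_nhd M hM x
  let U' : X.Opens := U ⊓ ⟨{y | fibRank M y = fibRank M x}, hc.isOpen_fiber _⟩
  let s' : Fin (fibRank M x) → Γ(M, U') := fun i => M.presheaf.map (homOfLE inf_le_left).op (s i)
  have hsurj : ∀ (y : X) (hy : y ∈ U'), Function.Surjective (Ref1.stalkComb s' y hy) := fun y hy => by
    have e : Ref1.stalkComb s' y hy = Ref1.stalkComb s y hy.1 := by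
      unfold Ref1.stalkComb
      congr 1
      funext i
      exact TopCat.Presheaf.germ_res_apply M.presheaf _ y hy (s i)
    rw [e]; exact hs y hy.1
  -- coefficients of relations lie in the maximal ideal
  have hmax : ∀ (y : X) (hy : y ∈ U') (a : Fin (fibRank M x) → X.presheaf.stalk y),
      Ref1.stalkComb s' y hy a = 0 → ∀ i, a i ∈ IsLocalRing.maximalIdeal (X.presheaf.stalk y) := by
    intro y hy a ha i
    let O := X.presheaf.stalk y
    let k := IsLocalRing.ResidueField O
    haveI : Module.Finite O (M.presheaf.stalk y) := QCoh.stalk_finite M ⟨‹M.IsQuasicoherent›, hM⟩ y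
    let w : Fin (fibRank M x) → k ⊗[O] M.presheaf.stalk y :=
      fun i => (1 : k) ⊗ₜ M.presheaf.germ U' y hy (s' i)
    have hw : ⊤ ≤ Submodule.span k (Set.range w) := by
      intro z _
      induction z with
      | zero => exact zero_mem _
      | add p q hp hq => exact add_mem (hp trivial) (hq trivial)
      | tmul c v =>
        obtain ⟨e, rfl⟩ := hsurj y hy v
        simp only [Ref1.stalkComb, Fintype.linearCombination_apply, tmul_sum, tmul_smul]
        refine Submodule.sum_mem _ fun j _ => ?_
        have : e j • c ⊗ₜ[O] M.presheaf.germ U' y hy (s' j) = (e j • c) • w j := by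
          simp only [w, TensorProduct.smul_tmul', smul_eq_mul, mul_one]
        rw [this]
        exact Submodule.smul_mem _ _ (Submodule.subset_span ⟨j, rfl⟩)
    have hli : LinearIndependent k w :=
      linearIndependent_of_top_le_span_of_card_eq_finrank hw (by rw [Fintype.card_fin]; exact hy.2.symm)
    have h1 : ∑ j, IsLocalRing.residue O (a j) • w j = 0 := by
      have h2 := congrArg (fun v => (1 : k) ⊗ₜ[O] v) ha
      simp only [Ref1.stalkComb, Fintype.linearCombination_apply, tmul_sum, tmul_zero, tmul_smul] at h2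
      refine Eq.trans (Finset.sum_congr rfl fun j _ => ?_) h2
      simp only [w, TensorProduct.smul_tmul', smul_eq_mul, mul_one, Algebra.smul_def]
      rfl
    exact (IsLocalRing.residue_eq_zero_iff _).mp (Fintype.linearIndependent_iff.mp hli _ h1 i)
  have hF : FinCov.IsFrame M U' s' := Ref1.isFrame_of_stalk fun y hy => by
    refine ⟨(injective_iff_map_eq_zero _).2 fun a ha => ?_, hsurj y hy⟩
    obtain ⟨T, hT, hyT, r, hr⟩ := Ref1.exists_repr_nhd hy a
    have h0 : M.presheaf.germ T y hyT (∑ i, r i • M.presheaf.map (homOfLE hT).op (s' i)) = 0 := by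
      rw [Ref1.germ_comb, ← ha]; exact congrArg _ (funext hr)
    obtain ⟨T', hT', hyT', hz⟩ := HomSh.exists_nhd_zero M hyT (fun _ : Unit => _) fun _ => h0
    funext i
    have hi : X.presheaf.map (homOfLE hT').op (r i) = 0 := by
      refine (basicOpen_eq_bot_iff _).mp (eq_bot_iff.mpr fun z hz' => ?_)
      have hzT : z ∈ T' := X.basicOpen_le _ hz'
      have h4 := congrArg (M.presheaf.germ T' z hzT) (hz ())
      rw [map_zero, TopCat.Presheaf.germ_res_apply, Ref1.germ_comb] at h4
      have h5 := hmax z (hT (hT' hzT)) _ h4 i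
      rw [Scheme.mem_basicOpen _ _ _ hzT, TopCat.Presheaf.germ_res_apply] at hz'
      exact ((IsLocalRing.mem_maximalIdeal _).mp h5 hz').elim
    have h6 := congrArg (X.presheaf.germ T' y hyT') hi
    rw [TopCat.Presheaf.germ_res_apply, hr, map_zero] at h6
    exact h6
  exact ⟨U', _, ⟨hxU, rfl⟩, FinCov.exists_iso_of_frame hF⟩

end GrothLib.LocFree8
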