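import Groth.Agent.Lib.LocFree8.Basic
import Groth.Agent.Lib.FlatFP.Syzygy
import Groth.Agent.Lib.QCoh.TildeFinite
import Groth.Agent.Lib.Approx6.ModuleScheme

/-!
# Tildes: finite presentation, flatness from free stalks
-/

universe u

open CategoryTheory AlgebraicGeometry TopologicalSpace

namespace GrothLib.LocFree8

variable {R : CommRingCat.{u}} (M : ModuleCat.{u} R)

theorem isFP_tilde [Module.FinitePresentation R M] : CohB1.IsFP (tilde M) := by
  refine FlatFP.isFP_of_sections _ (fun _ : PUnit.{u + 1} => ⊤) (by simp [IsOpenCover])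
    (fun _ => isAffineOpen_top _) fun _ => ?_
  haveI : Module.FinitePresentation R Γ(tilde M, ⊤) :=
    Module.FinitePresentation.of_equiv (tilde.isoTop M).toLinearEquiv
  refine FlatFP.finitePresentation_of_surjective_algebraMap (C := R) fun b => ?_
  have : algebraMap R Γ(Spec R, ⊤) = (Scheme.ΓSpecIso R).inv.hom := by
    refine RingHom.ext fun r => ?_
    show (Spec R).presheaf.map ((⊤ : (Spec R).Opens).leTop).op ((Scheme.ΓSpecIso R).inv r) = _
    rw [show ((⊤ : (Spec R).Opens).leTop).op = 𝟙 _ from rfl]
    simp
  rw [this]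
  exact (ConcreteCategory.bijective_of_isIso (Scheme.ΓSpecIso R).inv).2 b

theorem finite_of_isFT (h : CohB1.IsFT (tilde M)) : Module.Finite R M := by
  haveI : Module.Finite R Γ(tilde M, ⊤) := QCoh.moduleFinite_top_spec (tilde M) h
  let e : Γ(tilde M, ⊤) ≃ₗ[R] M := (tilde.isoTop M).toLinearEquiv.symm
  exact Module.Finite.equiv e

theorem finitePresentation_of_isFP (h : CohB1.IsFP (tilde M)) : Module.FinitePresentation R M := by
  haveI : Module.FinitePresentation R Γ(tilde M, ⊤) := Approx6.finitePresentation_top (tilde M) h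
  let e : Γ(tilde M, ⊤) ≃ₗ[R] M := (tilde.isoTop M).toLinearEquiv.symm
  exact Module.FinitePresentation.of_equiv e

set_option backward.isDefEq.respectTransparency.types false in
theorem flat_of_free_stalks (h : ∀ x : Spec R,
    Module.Free ((Spec R).presheaf.stalk x) ((tilde M).presheaf.stalk x)) : Module.Flat R M := by
  refine Module.flat_of_localized_maximal M fun P hP => ?_
  let x : PrimeSpectrum.Top R := ⟨P, hP.isPrime⟩
  have key : ∀ (x : PrimeSpectrum.Top R) (_ : x.asIdeal.IsPrime),
      IsLocalizedModule x.asIdeal.primeCompl (tilde.toStalk M x).hom := fun x _ => inferInstance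
  haveI hloc : IsLocalizedModule P.primeCompl (tilde.toStalk M x).hom := key x hP.isPrime
  let O := (Spec R).presheaf.stalk x
  letI : Algebra R O := StructureSheaf.stalkAlgebra (R := R) x
  haveI : IsLocalization.AtPrime O P := StructureSheaf.IsLocalization.to_stalk (R := R) x
  haveI : IsScalarTower R O ((tilde M).presheaf.stalk x) := .of_algebraMap_smul fun _ _ => rfl
  haveI : Module.Free O ((tilde M).presheaf.stalk x) := h x
  haveI : Module.Flat R O := IsLocalization.flat O P.primeCompl
  haveI : Module.Flat R ((tilde M).presheaf.stalk x) := Module.Flat.trans R O _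
  exact Module.Flat.of_linearEquiv (IsLocalizedModule.iso P.primeCompl (tilde.toStalk M x).hom)

end GrothLib.LocFree8
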